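import Mathlib
import Cfsg.Prelude.Def_OddOrderLocal
set_option linter.all false

-- part: H470/MetaBase
section
/-!
Coordinates for finite metacyclic `p`-groups, `p` odd, and a bijective crossed homomorphism
from `G / Z(G)` onto `(ℤ/p^n)²`, `|G'| = p^n`, which turns commuting into orthogonality for the
standard symplectic form.
-/

set_option autoImplicit false

open scoped commutatorElement

namespace Cfsg.Agent.H470

/-- geometric sum -/
def lam (r j : ℕ) : ℕ := ∑ i ∈ Finset.range j, r ^ i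

theorem lam_zero (r : ℕ) : lam r 0 = 0 := by simp [lam]

theorem lam_one (r : ℕ) : lam r 1 = 1 := by simp [lam]

theorem lam_add (r j l : ℕ) : lam r (j + l) = lam r j + r ^ j * lam r l := by
  simp only [lam, Finset.sum_range_add, pow_add, Finset.mul_sum]

theorem lam_succ (r j : ℕ) : lam r (j + 1) = lam r j + r ^ j := by
  rw [lam_add, lam_one, mul_one]

theorem mul_lam (q j : ℕ) : q * lam (1 + q) j + 1 = (1 + q) ^ j := by
  induction j with
  | zero => simp [lam_zero]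
  | succ j ih =>
    rw [lam_succ, pow_succ, mul_add, mul_one_add, ← ih]
    ring

/-- lifting the exponent -/
theorem dvd_lam_iff {p k u : ℕ} (hp : p.Prime) (hp2 : p ≠ 2) (hk : k ≠ 0) (hu : ¬ p ∣ u)
    (s j : ℕ) : p ^ s ∣ lam (1 + p ^ k * u) j ↔ p ^ s ∣ j := by
  have hodd : Odd p := hp.odd_of_ne_two hp2
  have hu0 : u ≠ 0 := by rintro rfl; exact hu (dvd_zero _)
  have hq0 : p ^ k * u ≠ 0 := mul_ne_zero (pow_ne_zero _ hp.ne_zero) hu0
  have hpq : p ∣ p ^ k * u := Dvd.dvd.mul_right (dvd_pow_self p hk) u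
  have hx : ¬ p ∣ 1 + p ^ k * u := by
    intro h
    have h1 : p ∣ 1 := (Nat.dvd_add_left hpq).1 h
    exact hp.one_lt.ne' (Nat.dvd_one.1 h1)
  have h1 := Nat.emultiplicity_pow_sub_pow hp hodd (x := 1 + p ^ k * u) (y := 1)
    (by simpa using hpq) hx j
  have h2 : (1 + p ^ k * u) ^ j - 1 ^ j = (p ^ k * u) * lam (1 + p ^ k * u) j := by
    rw [one_pow, ← mul_lam]; simp
  rw [h2, Nat.add_sub_cancel_left, emultiplicity_mul hp.prime] at h1
  have hfin : emultiplicity p (p ^ k * u) ≠ ⊤ := by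
    rw [ne_eq, emultiplicity_eq_top, not_not]
    exact Nat.finiteMultiplicity_iff.2 ⟨hp.one_lt.ne', Nat.pos_of_ne_zero hq0⟩
  have h3 : emultiplicity p (lam (1 + p ^ k * u) j) = emultiplicity p j := by
    rw [add_comm, add_comm (emultiplicity p (p ^ k * u))] at h1
    exact ENat.add_left_injective_of_ne_top hfin h1
  rw [pow_dvd_iff_le_emultiplicity, pow_dvd_iff_le_emultiplicity, h3]


theorem dvd_lam_iff' {p q : ℕ} (hp : p.Prime) (hp2 : p ≠ 2) (hq : p ∣ q)
    (s j : ℕ) : p ^ s ∣ lam (1 + q) j ↔ p ^ s ∣ j := by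
  rcases eq_or_ne q 0 with rfl | hq0
  · have : lam (1 + 0) j = j := by simp [lam]
    rw [this]
  · obtain ⟨k, u, hu, hqe⟩ := Nat.exists_eq_pow_mul_and_not_dvd hq0 p hp.one_lt.ne'
    rw [hqe]
    apply dvd_lam_iff hp hp2 _ hu
    rintro rfl
    rw [pow_zero, one_mul] at hqe
    rw [hqe] at hq
    exact hu hq

theorem lam_cast_eq_iff {p q : ℕ} (hp : p.Prime) (hp2 : p ≠ 2) (hq : p ∣ q)
    (s j l : ℕ) : (lam (1 + q) j : ZMod (p ^ s)) = lam (1 + q) l ↔ (j : ZMod (p ^ s)) = l := by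
  wlog hjl : j ≤ l generalizing j l
  · rw [eq_comm, this l j (le_of_not_ge hjl), eq_comm]
  obtain ⟨d, rfl⟩ := Nat.exists_eq_add_of_le hjl
  rw [lam_add]
  push_cast
  rw [left_eq_add, left_eq_add]
  have hcop : ((1 + q) ^ j).Coprime (p ^ s) := by
    apply Nat.Coprime.pow
    rw [Nat.coprime_comm, Nat.Prime.coprime_iff_not_dvd hp]
    intro h
    exact hp.one_lt.ne' (Nat.dvd_one.1 ((Nat.dvd_add_left hq).1 h))
  have h1 : ((1 + (q : ZMod (p ^ s))) ^ j * (lam (1 + q) d : ZMod (p ^ s))) =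
      (((1 + q) ^ j * lam (1 + q) d : ℕ) : ZMod (p ^ s)) := by push_cast; ring
  rw [h1, ZMod.natCast_eq_zero_iff, ZMod.natCast_eq_zero_iff, hcop.symm.dvd_mul_left,
    dvd_lam_iff' hp hp2 hq]

theorem lam_surj {p q : ℕ} (hp : p.Prime) (hp2 : p ≠ 2) (hq : p ∣ q)
    (s : ℕ) (e : ZMod (p ^ s)) : ∃ j : ℕ, (lam (1 + q) j : ZMod (p ^ s)) = e := by
  have : NeZero (p ^ s) := ⟨pow_ne_zero _ hp.ne_zero⟩
  let f : ZMod (p ^ s) → ZMod (p ^ s) := fun x => (lam (1 + q) x.val : ZMod (p ^ s))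
  have hf : Function.Injective f := by
    intro x y hxy
    have h1 := (lam_cast_eq_iff hp hp2 hq s x.val y.val).1 hxy
    simpa using h1
  obtain ⟨x, hx⟩ := (Finite.injective_iff_surjective.1 hf) e
  exact ⟨x.val, hx⟩

/-- coordinates for a metacyclic `p`-group, `p` odd -/
structure MetaCoord (p : ℕ) (G : Type*) [Group G] where
  a : G
  b : G
  m : ℕ
  k : ℕ
  u : ℕ
  ha : orderOf a = p ^ m
  hk : k ≠ 0
  hu : ¬ p ∣ u
  conj : b * a * b⁻¹ = a ^ (1 + p ^ k * u)
  gen : ∀ g : G, ∃ i j : ℕ, g = a ^ i * b ^ j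

theorem exists_coord {p : ℕ} [hpf : Fact p.Prime] {G : Type*} [Group G] [Finite G]
    (hG : IsPGroup p G) (hmc : Cfsg.IsMetacyclic G) : Nonempty (MetaCoord p G) := by
  have hp := hpf.out
  obtain ⟨N, hN, hc, hq⟩ := hmc
  obtain ⟨⟨a, haN⟩, hgen⟩ := hc.exists_generator
  obtain ⟨bq, hb⟩ := hq.exists_generator
  obtain ⟨b, rfl⟩ := QuotientGroup.mk_surjective bq
  have hNa : ∀ x ∈ N, ∃ i : ℕ, x = a ^ i := by
    intro x hx
    have := hgen ⟨x, hx⟩
    rw [← mem_powers_iff_mem_zpowers] at this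
    obtain ⟨i, hi⟩ := this
    refine ⟨i, ?_⟩
    have := congrArg Subtype.val hi
    simpa using this.symm
  have hgen' : ∀ g : G, ∃ i j : ℕ, g = a ^ i * b ^ j := by
    intro g
    have := hb (g : G ⧸ N)
    rw [← mem_powers_iff_mem_zpowers] at this
    obtain ⟨j, hj⟩ := this
    have h1 : g * (b ^ j)⁻¹ ∈ N := by
      have h2 : (g : G ⧸ N) = ((b ^ j : G) : G ⧸ N) := by
        rw [QuotientGroup.mk_pow]; exact hj.symm
      have h3 := (QuotientGroup.eq (s := N)).1 h2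
      have h4 := hN.conj_mem _ h3 g
      have h5 : g * (g⁻¹ * b ^ j) * g⁻¹ = (g * (b ^ j)⁻¹)⁻¹ := by group
      rw [h5] at h4
      exact (inv_mem_iff).1 h4
    obtain ⟨i, hi⟩ := hNa _ h1
    exact ⟨i, j, by rw [← hi]; group⟩
  obtain ⟨m, hm⟩ := (IsPGroup.iff_orderOf.1 hG) a
  obtain ⟨r0, hr0⟩ := hNa (b * a * b⁻¹) (hN.conj_mem a haN b)
  by_cases hcase : a ^ r0 = a
  · refine ⟨⟨a, b, m, m + 1, 1, hm, Nat.succ_ne_zero _, ?_, ?_, hgen'⟩⟩
    · exact fun h => hp.one_lt.ne' (Nat.dvd_one.1 h)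
    · rw [hr0, hcase, mul_one, pow_add, pow_one, pow_succ, pow_mul, ← hm, pow_orderOf_eq_one,
        one_pow, mul_one]
  · -- nontrivial action
    have hm0 : m ≠ 0 := by
      rintro rfl
      rw [pow_zero, orderOf_eq_one_iff] at hm
      apply hcase
      rw [hm, one_pow]
    have hr00 : r0 ≠ 0 := by
      rintro rfl
      rw [pow_zero] at hr0
      have ha1 : a = 1 := by
        have : b * a * b⁻¹ = b * 1 * b⁻¹ := by rw [hr0]; group
        exact mul_left_cancel (mul_right_cancel this)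
      apply hcase
      rw [ha1, one_pow]
    have hpow : ∀ j : ℕ, b ^ j * a * (b ^ j)⁻¹ = a ^ (r0 ^ j) := by
      intro j
      induction j with
      | zero => simp
      | succ j ih =>
        have : b ^ (j + 1) * a * (b ^ (j + 1))⁻¹ = b * (b ^ j * a * (b ^ j)⁻¹) * b⁻¹ := by
          rw [pow_succ']; group
        rw [this, ih, pow_succ, pow_mul', ← hr0]
        exact (conj_pow).symm
    obtain ⟨t, ht⟩ := (IsPGroup.iff_orderOf.1 hG) b
    have hrt : a ^ (r0 ^ (p ^ t)) = a ^ 1 := by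
      rw [← hpow, ← ht, pow_orderOf_eq_one, pow_one]; group
    rw [pow_eq_pow_iff_modEq, hm] at hrt
    have hrp : (r0 ^ (p ^ t)) ≡ 1 [MOD p] := hrt.of_dvd (dvd_pow_self p hm0)
    have hr1 : r0 ≡ 1 [MOD p] := by
      have h1 := (ZMod.natCast_eq_natCast_iff _ _ _).2 hrp
      rw [← ZMod.natCast_eq_natCast_iff]
      rw [Nat.cast_pow, ZMod.pow_card_pow] at h1
      exact h1
    -- r0 = 1 + q
    obtain ⟨q, rfl⟩ : ∃ q, r0 = 1 + q := ⟨r0 - 1, by omega⟩
    have hq0 : q ≠ 0 := by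
      rintro rfl
      apply hcase; simp
    have hpq : p ∣ q := by
      have := (Nat.modEq_iff_dvd' (show 1 ≤ 1 + q by omega)).1 hr1.symm
      simpa using this
    obtain ⟨k, u, hu, hqe⟩ := Nat.exists_eq_pow_mul_and_not_dvd hq0 p hp.one_lt.ne'
    refine ⟨⟨a, b, m, k, u, hm, ?_, hu, by rw [← hqe]; exact hr0, hgen'⟩⟩
    rintro rfl
    rw [pow_zero, one_mul] at hqe
    rw [hqe] at hpq
    exact hu hpq


namespace MetaCoord

variable {p : ℕ} {G : Type*} [Group G] (c : MetaCoord p G)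

/-- the multiplier -/
def q : ℕ := p ^ c.k * c.u

/-- `b` acts on `a` as the `r`-th power -/
def r : ℕ := 1 + c.q

/-- `|G'| = p ^ n` -/
def n : ℕ := c.m - c.k

theorem conj_a_pow (i j : ℕ) : c.b ^ j * c.a ^ i * (c.b ^ j)⁻¹ = c.a ^ (i * c.r ^ j) := by
  induction j generalizing i with
  | zero => simp
  | succ j ih =>
    have h1 : c.b ^ (j + 1) * c.a ^ i * (c.b ^ (j + 1))⁻¹
        = c.b ^ j * (c.b * c.a ^ i * c.b⁻¹) * (c.b ^ j)⁻¹ := by
      rw [pow_succ]; group
    have h2 : c.b * c.a ^ i * c.b⁻¹ = c.a ^ (i * c.r) := by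
      rw [← conj_pow, c.conj, ← pow_mul, mul_comm]; rfl
    rw [h1, h2, ih]
    congr 1
    ring

theorem b_pow_mul_a_pow (i j : ℕ) : c.b ^ j * c.a ^ i = c.a ^ (i * c.r ^ j) * c.b ^ j := by
  rw [← c.conj_a_pow]; group

theorem mul_rule (i j i' j' : ℕ) :
    (c.a ^ i * c.b ^ j) * (c.a ^ i' * c.b ^ j')
      = c.a ^ (i + i' * c.r ^ j) * c.b ^ (j + j') := by
  rw [pow_add, pow_add]
  calc (c.a ^ i * c.b ^ j) * (c.a ^ i' * c.b ^ j')
      = c.a ^ i * (c.b ^ j * c.a ^ i') * c.b ^ j' := by group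
    _ = c.a ^ i * c.a ^ (i' * c.r ^ j) * (c.b ^ j * c.b ^ j') := by
        rw [c.b_pow_mul_a_pow]; group

theorem r_pow (j : ℕ) : c.r ^ j = c.q * lam c.r j + 1 := (mul_lam c.q j).symm

section prime
variable [hpf : Fact p.Prime]

theorem dvd_q_mul (z : ℤ) : ((p ^ c.m : ℕ) : ℤ) ∣ (c.q : ℤ) * z ↔ ((p ^ c.n : ℕ) : ℤ) ∣ z := by
  have hp := hpf.out
  have hpu : IsCoprime ((p ^ c.m : ℕ) : ℤ) (c.u : ℤ) := by
    rw [Nat.isCoprime_iff_coprime]
    exact Nat.Coprime.pow_left _ ((Nat.Prime.coprime_iff_not_dvd hp).2 c.hu)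
  have h1 : (c.q : ℤ) * z = (c.u : ℤ) * (((p ^ c.k : ℕ) : ℤ) * z) := by
    unfold q; push_cast; ring
  have h2 : ((p ^ c.m : ℕ) : ℤ) ∣ (c.u : ℤ) * (((p ^ c.k : ℕ) : ℤ) * z) ↔
      ((p ^ c.m : ℕ) : ℤ) ∣ (((p ^ c.k : ℕ) : ℤ) * z) :=
    ⟨fun h => hpu.dvd_of_dvd_mul_left h, fun h => Dvd.dvd.mul_left h _⟩
  rw [h1, h2]
  unfold n
  rcases le_total c.k c.m with h | h
  · obtain ⟨d, hd⟩ := Nat.exists_eq_add_of_le h
    rw [hd, Nat.add_sub_cancel_left, pow_add, Nat.cast_mul]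
    exact mul_dvd_mul_iff_left (by exact_mod_cast pow_ne_zero _ hp.ne_zero)
  · rw [Nat.sub_eq_zero_of_le h, pow_zero]
    constructor
    · intro _; exact one_dvd _
    · intro _
      exact Dvd.dvd.mul_right (by exact_mod_cast pow_dvd_pow p h) z

theorem a_zpow_eq_one_iff (z : ℤ) : c.a ^ ((c.q : ℤ) * z) = 1 ↔ ((p ^ c.n : ℕ) : ℤ) ∣ z := by
  rw [← orderOf_dvd_iff_zpow_eq_one, c.ha, c.dvd_q_mul]

theorem a_zpow_eq_iff (z w : ℤ) :
    c.a ^ ((c.q : ℤ) * z) = c.a ^ ((c.q : ℤ) * w) ↔ (z : ZMod (p ^ c.n)) = (w : ZMod (p ^ c.n)) := by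
  rw [← mul_inv_eq_one, ← zpow_neg, ← zpow_add]
  have : (c.q : ℤ) * z + -((c.q : ℤ) * w) = (c.q : ℤ) * (z - w) := by ring
  rw [this, a_zpow_eq_one_iff, ZMod.intCast_eq_intCast_iff_dvd_sub]
  rw [dvd_sub_comm]

omit hpf in
/-- the basic commutator computation -/
theorem comm_rule (i j i' j' : ℕ) :
    (c.a ^ i * c.b ^ j) * (c.a ^ i' * c.b ^ j') =
      c.a ^ ((c.q : ℤ) * ((i' : ℤ) * lam c.r j - (i : ℤ) * lam c.r j')) *
        ((c.a ^ i' * c.b ^ j') * (c.a ^ i * c.b ^ j)) := by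
  rw [mul_rule, mul_rule, ← mul_assoc, add_comm j' j, ← zpow_natCast c.a, ← zpow_natCast c.a,
    ← zpow_add]
  congr 2
  rw [r_pow, r_pow]
  push_cast
  ring

omit hpf in
theorem conj_b_rule (i j : ℕ) : c.b * (c.a ^ i * c.b ^ j) = c.a ^ ((c.q : ℤ) * (i : ℤ)) *
    ((c.a ^ i * c.b ^ j) * c.b) := by
  have h := c.comm_rule 0 1 i j
  simpa [lam_one, lam_zero] using h

omit hpf in
theorem conj_a_rule (i j : ℕ) : (c.a ^ i * c.b ^ j) * c.a = c.a ^ ((c.q : ℤ) * (lam c.r j : ℤ)) *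
    (c.a * (c.a ^ i * c.b ^ j)) := by
  have h := c.comm_rule i j 1 0
  simpa [lam_one, lam_zero] using h

/-- well-definedness of the coordinates modulo `p ^ n` -/
theorem coord_wd {i j i' j' : ℕ} (h : c.a ^ i * c.b ^ j = c.a ^ i' * c.b ^ j') :
    (i : ZMod (p ^ c.n)) = i' ∧ (lam c.r j : ZMod (p ^ c.n)) = lam c.r j' := by
  constructor
  · have h1 := c.conj_b_rule i j
    rw [h, c.conj_b_rule i' j'] at h1
    have h2 := (c.a_zpow_eq_iff _ _).1 (mul_right_cancel h1)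
    simpa using h2.symm
  · have h1 := c.conj_a_rule i j
    rw [h, c.conj_a_rule i' j'] at h1
    have h2 := (c.a_zpow_eq_iff _ _).1 (mul_right_cancel h1)
    simpa using h2.symm

end prime

/-- the crossed homomorphism -/
noncomputable def D (g : G) : ZMod (p ^ c.n) × ZMod (p ^ c.n) :=
  (((c.gen g).choose : ZMod (p ^ c.n)), (lam c.r (c.gen g).choose_spec.choose : ZMod (p ^ c.n)))

variable [hpf : Fact p.Prime]

theorem D_eq (i j : ℕ) :
    c.D (c.a ^ i * c.b ^ j) = ((i : ZMod (p ^ c.n)), (lam c.r j : ZMod (p ^ c.n))) := by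
  have h := c.coord_wd (c.gen (c.a ^ i * c.b ^ j)).choose_spec.choose_spec
  exact Prod.ext h.1.symm h.2.symm

/-- the scalar -/
noncomputable def chi (g : G) : ZMod (p ^ c.n) := 1 + c.q * (c.D g).2

theorem D_mul (x y : G) : c.D (x * y) = c.D x + c.chi x • c.D y := by
  obtain ⟨i, j, rfl⟩ := c.gen x
  obtain ⟨i', j', rfl⟩ := c.gen y
  unfold chi
  rw [mul_rule, D_eq, D_eq, D_eq, lam_add, r_pow]
  ext
  · simp; ring
  · simp; ring

theorem D_one : c.D 1 = 0 := by
  have := c.D_eq 0 0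
  simp only [pow_zero, mul_one, Nat.cast_zero, lam_zero] at this
  exact this

theorem D_a : c.D c.a = (1, 0) := by
  have := c.D_eq 1 0
  simpa [lam_zero] using this

theorem D_b : c.D c.b = (0, 1) := by
  have := c.D_eq 0 1
  simpa [lam_one] using this

/-- the standard symplectic form -/
def om {R : Type*} [CommRing R] (v w : R × R) : R := v.1 * w.2 - w.1 * v.2

theorem comm_eq (x y : G) (z : ℤ) (hz : (z : ZMod (p ^ c.n)) = om (c.D y) (c.D x)) :
    x * y = c.a ^ ((c.q : ℤ) * z) * (y * x) := by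
  obtain ⟨i, j, rfl⟩ := c.gen x
  obtain ⟨i', j', rfl⟩ := c.gen y
  rw [D_eq, D_eq] at hz
  rw [c.comm_rule i j i' j']
  congr 1
  rw [a_zpow_eq_iff, hz, om]
  push_cast
  rfl

theorem commute_iff (x y : G) : Commute x y ↔ om (c.D x) (c.D y) = 0 := by
  obtain ⟨z, hz⟩ := ZMod.intCast_surjective (om (c.D y) (c.D x))
  have h1 := c.comm_eq x y z hz
  have h2 : om (c.D x) (c.D y) = - (z : ZMod (p ^ c.n)) := by rw [hz, om, om]; ring
  rw [h2, neg_eq_zero]
  constructor
  · intro h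
    rw [h.eq] at h1
    have h3 : c.a ^ ((c.q : ℤ) * z) = 1 := (mul_eq_right (b := y * x)).1 h1.symm
    rw [a_zpow_eq_one_iff] at h3
    exact (ZMod.intCast_zmod_eq_zero_iff_dvd _ _).2 h3
  · intro h
    have h3 : c.a ^ ((c.q : ℤ) * z) = 1 := by
      rw [a_zpow_eq_one_iff]
      exact (ZMod.intCast_zmod_eq_zero_iff_dvd _ _).1 h
    rw [h3, one_mul] at h1
    exact h1

theorem D_eq_zero_iff (g : G) : c.D g = 0 ↔ g ∈ Subgroup.center G := by
  rw [Subgroup.mem_center_iff]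
  constructor
  · intro h x
    apply ((c.commute_iff x g).2 _).eq
    rw [h, om]; simp
  · intro h
    have h1 := (c.commute_iff c.a g).1 (h c.a)
    have h2 := (c.commute_iff c.b g).1 (h c.b)
    rw [D_a, om] at h1
    rw [D_b, om] at h2
    ext
    · simpa using h2
    · simpa using h1


omit hpf in
theorem p_dvd_q : p ∣ c.q := Dvd.dvd.mul_right (dvd_pow_self p c.hk) c.u

theorem chi_eq (i j : ℕ) : c.chi (c.a ^ i * c.b ^ j) = ((c.r ^ j : ℕ) : ZMod (p ^ c.n)) := by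
  rw [chi, D_eq, r_pow]
  push_cast
  ring

theorem isUnit_chi (x : G) : IsUnit (c.chi x) := by
  have hp := hpf.out
  obtain ⟨i, j, rfl⟩ := c.gen x
  rw [chi_eq, ZMod.isUnit_iff_coprime]
  apply Nat.Coprime.pow
  rw [Nat.coprime_comm, Nat.Prime.coprime_iff_not_dvd hp]
  intro h
  exact hp.one_lt.ne' (Nat.dvd_one.1 ((Nat.dvd_add_left c.p_dvd_q).1 h))

theorem D_pow (i j t : ℕ) : c.D ((c.a ^ i * c.b ^ j) ^ t) =
    ((lam (c.r ^ j) t : ℕ) : ZMod (p ^ c.n)) • c.D (c.a ^ i * c.b ^ j) := by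
  induction t with
  | zero => simp [D_one, lam_zero]
  | succ t ih =>
    rw [pow_succ', D_mul, ih, chi_eq, smul_smul]
    have h1 : lam (c.r ^ j) (t + 1) = 1 + c.r ^ j * lam (c.r ^ j) t := by
      rw [add_comm t 1, lam_add, lam_one, pow_one]
    rw [h1]
    push_cast
    rw [add_smul, one_smul]

/-- multiples of `D y` are values of `D` on powers of `y` -/
theorem exists_D_pow (hp2 : p ≠ 2) (y : G) (e : ZMod (p ^ c.n)) :
    ∃ t : ℕ, c.D (y ^ t) = e • c.D y ∧ ∀ s ≤ c.n, (∃ e', e = (p ^ s : ℕ) * e') → p ^ s ∣ t := by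
  obtain ⟨i, j, rfl⟩ := c.gen y
  have hq : p ∣ c.q * lam c.r j := Dvd.dvd.mul_right c.p_dvd_q _
  obtain ⟨t, ht⟩ := lam_surj hpf.out hp2 hq c.n e
  have hrj : c.r ^ j = 1 + c.q * lam c.r j := by rw [r_pow, add_comm]
  refine ⟨t, ?_, ?_⟩
  · rw [D_pow, hrj, ht]
  · rintro s hs ⟨e', he'⟩
    rw [← dvd_lam_iff' hpf.out hp2 hq s t]
    have h1 : ((lam (1 + c.q * lam c.r j) t : ℕ) : ZMod (p ^ s)) = 0 := by
      have h2 := congrArg (ZMod.castHom (pow_dvd_pow p hs) (ZMod (p ^ s))) (ht.trans he')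
      rw [map_natCast, map_mul, map_natCast, ZMod.natCast_self, zero_mul] at h2
      exact h2
    exact (ZMod.natCast_eq_zero_iff _ _).1 h1

theorem D_pow_pow_mem (y : G) (hp2 : p ≠ 2) (s : ℕ) :
    ∃ e, c.D (y ^ (p ^ s)) = ((p ^ s : ℕ) * e : ZMod (p ^ c.n)) • c.D y := by
  obtain ⟨i, j, rfl⟩ := c.gen y
  have hq : p ∣ c.q * lam c.r j := Dvd.dvd.mul_right c.p_dvd_q _
  have hrj : c.r ^ j = 1 + c.q * lam c.r j := by rw [r_pow, add_comm]
  have h := (dvd_lam_iff' hpf.out hp2 hq s (p ^ s)).2 dvd_rfl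
  obtain ⟨e, he⟩ := h
  refine ⟨(e : ZMod (p ^ c.n)), ?_⟩
  rw [D_pow, hrj, he]
  push_cast
  rfl

theorem D_surjective (hp2 : p ≠ 2) : Function.Surjective c.D := by
  have : NeZero (p ^ c.n) := ⟨pow_ne_zero _ hpf.out.ne_zero⟩
  rintro ⟨u, v⟩
  obtain ⟨j, hj⟩ := lam_surj hpf.out hp2 c.p_dvd_q c.n v
  refine ⟨c.a ^ u.val * c.b ^ j, ?_⟩
  rw [D_eq]
  ext
  · simp
  · exact hj

theorem D_eq_D_iff (x y : G) : c.D x = c.D y ↔ x⁻¹ * y ∈ Subgroup.center G := by
  rw [← c.D_eq_zero_iff]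
  have h : c.D y = c.D x + c.chi x • c.D (x⁻¹ * y) := by
    rw [← D_mul]; simp
  rw [h, left_eq_add]
  exact (c.isUnit_chi x).smul_eq_zero

/-- the image of a subgroup -/
noncomputable def W (hp2 : p ≠ 2) (R : Subgroup G) : AddSubgroup (ZMod (p ^ c.n) × ZMod (p ^ c.n)) where
  carrier := c.D '' R
  zero_mem' := ⟨1, R.one_mem, c.D_one⟩
  add_mem' := by
    rintro _ _ ⟨x, hx, rfl⟩ ⟨y, hy, rfl⟩
    obtain ⟨u, hu⟩ := c.isUnit_chi x
    obtain ⟨t, ht, -⟩ := c.exists_D_pow hp2 y ((u⁻¹ : (ZMod (p ^ c.n))ˣ) : ZMod (p ^ c.n))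
    refine ⟨x * y ^ t, R.mul_mem hx (R.pow_mem hy t), ?_⟩
    rw [D_mul, ht, ← hu, smul_smul, Units.mul_inv, one_smul]
  neg_mem' := by
    rintro _ ⟨y, hy, rfl⟩
    obtain ⟨t, ht, -⟩ := c.exists_D_pow hp2 y (-1)
    exact ⟨y ^ t, R.pow_mem hy t, by rw [ht, neg_one_smul]⟩

theorem mem_W_iff (hp2 : p ≠ 2) (R : Subgroup G) (v : ZMod (p ^ c.n) × ZMod (p ^ c.n)) :
    v ∈ c.W hp2 R ↔ ∃ x ∈ R, c.D x = v := Iff.rfl

theorem D_mem_W_iff (hp2 : p ≠ 2) {R : Subgroup G} (hR : Subgroup.center G ≤ R) (x : G) :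
    c.D x ∈ c.W hp2 R ↔ x ∈ R := by
  constructor
  · rintro ⟨y, hy, hyx⟩
    rw [D_eq_D_iff] at hyx
    have := R.mul_mem hy (hR hyx)
    simpa using this
  · intro hx
    exact ⟨x, hx, rfl⟩

theorem smul_mem_W (hp2 : p ≠ 2) (R : Subgroup G) (e : ZMod (p ^ c.n))
    {v : ZMod (p ^ c.n) × ZMod (p ^ c.n)} (hv : v ∈ c.W hp2 R) : e • v ∈ c.W hp2 R := by
  obtain ⟨x, hx, rfl⟩ := hv
  obtain ⟨t, ht, -⟩ := c.exists_D_pow hp2 x e
  exact ⟨x ^ t, R.pow_mem hx t, ht⟩

theorem card_W_mul (hp2 : p ≠ 2) (R : Subgroup G) :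
    Nat.card (c.W hp2 R) * Nat.card ↥(R ⊓ Subgroup.center G) = Nat.card R := by
  rw [Subgroup.card_eq_card_quotient_mul_card_subgroup ((Subgroup.center G).subgroupOf R)]
  congr 1
  · symm
    let f : R ⧸ ((Subgroup.center G).subgroupOf R) → c.W hp2 R :=
      Quotient.lift (fun x : R => (⟨c.D x, ⟨x, x.2, rfl⟩⟩ : c.W hp2 R)) (by
        intro x y hxy
        apply Subtype.ext
        apply (c.D_eq_D_iff _ _).2
        have := QuotientGroup.leftRel_apply.1 hxy
        rw [Subgroup.mem_subgroupOf] at this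
        exact this)
    apply Nat.card_congr (Equiv.ofBijective f ⟨?_, ?_⟩)
    · intro x y hxy
      induction x using QuotientGroup.induction_on with | _ x
      induction y using QuotientGroup.induction_on with | _ y
      have h1 : c.D x = c.D y := congrArg Subtype.val hxy
      rw [D_eq_D_iff] at h1
      apply QuotientGroup.eq.2
      rw [Subgroup.mem_subgroupOf]
      exact h1
    · rintro ⟨_, x, hx, rfl⟩
      exact ⟨QuotientGroup.mk (⟨x, hx⟩ : R), rfl⟩
  · rw [inf_comm, ← Subgroup.inf_subgroupOf_right]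
    exact (Nat.card_congr (Subgroup.subgroupOfEquivOfLe inf_le_right).toEquiv).symm

theorem card_W (hp2 : p ≠ 2) {R : Subgroup G} (hR : Subgroup.center G ≤ R) :
    Nat.card (c.W hp2 R) * Nat.card (Subgroup.center G) = Nat.card R := by
  rw [← c.card_W_mul hp2 R, inf_eq_right.2 hR]

theorem W_top (hp2 : p ≠ 2) : c.W hp2 ⊤ = ⊤ := by
  rw [eq_top_iff]
  intro v _
  obtain ⟨x, hx⟩ := c.D_surjective hp2 v
  exact ⟨x, Subgroup.mem_top _, hx⟩

omit hpf in
theorem card_V : Nat.card (ZMod (p ^ c.n) × ZMod (p ^ c.n)) = p ^ (2 * c.n) := by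
  rw [Nat.card_prod, Nat.card_zmod, ← pow_add, two_mul]

theorem card_eq (hp2 : p ≠ 2) : p ^ (2 * c.n) * Nat.card (Subgroup.center G) = Nat.card G := by
  have h := c.card_W hp2 (R := ⊤) le_top
  rw [W_top, AddSubgroup.card_top, Subgroup.card_top, card_V] at h
  exact h

theorem index_center [Finite G] (hp2 : p ≠ 2) : (Subgroup.center G).index = p ^ (2 * c.n) := by
  have h1 := c.card_eq hp2
  have h2 := (Subgroup.center G).index_mul_card
  rw [← h1] at h2
  exact Nat.eq_of_mul_eq_mul_right Nat.card_pos h2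

theorem card_zpowers_aq : Nat.card (Subgroup.zpowers (c.a ^ c.q)) = p ^ c.n := by
  rw [Nat.card_zpowers]
  apply Nat.dvd_antisymm
  · rw [orderOf_dvd_iff_pow_eq_one, ← pow_mul, ← zpow_natCast, Nat.cast_mul, a_zpow_eq_one_iff]
  · have h1 : c.a ^ ((c.q : ℤ) * (orderOf (c.a ^ c.q) : ℤ)) = 1 := by
      rw [zpow_mul, zpow_natCast, zpow_natCast, pow_orderOf_eq_one]
    rw [a_zpow_eq_one_iff] at h1
    exact_mod_cast h1

theorem commutatorElement_eq (x y : G) (z : ℤ) (hz : (z : ZMod (p ^ c.n)) = om (c.D y) (c.D x)) :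
    ⁅x, y⁆ = c.a ^ ((c.q : ℤ) * z) := by
  have := c.comm_eq x y z hz
  rw [commutatorElement_def, this]
  group

theorem commutator_eq : commutator G = Subgroup.zpowers (c.a ^ c.q) := by
  apply le_antisymm
  · rw [commutator_def, Subgroup.commutator_le]
    rintro x - y -
    obtain ⟨z, hz⟩ := ZMod.intCast_surjective (om (c.D y) (c.D x))
    rw [c.commutatorElement_eq x y z hz, Subgroup.mem_zpowers_iff]
    exact ⟨z, by rw [zpow_mul, zpow_natCast]⟩
  · rw [Subgroup.zpowers_le]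
    have h : ⁅c.b, c.a⁆ = c.a ^ c.q := by
      rw [c.commutatorElement_eq c.b c.a 1, mul_one, zpow_natCast]
      rw [D_a, D_b, om]; simp
    rw [← h, commutator_def]
    exact Subgroup.commutator_mem_commutator (Subgroup.mem_top _) (Subgroup.mem_top _)

theorem card_commutator : Nat.card (commutator G) = p ^ c.n := by
  rw [c.commutator_eq, card_zpowers_aq]

end MetaCoord

end Cfsg.Agent.H470
end

-- part: H470/MetaMain
section
/-!
Consequences of the symplectic coordinates for metacyclic `p`-groups, `p` odd.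
-/

set_option autoImplicit false

open scoped commutatorElement

namespace Cfsg.Agent.H470

section lattice

variable {p n : ℕ} [hpf : Fact p.Prime]

theorem zmod_subgroup (H : AddSubgroup (ZMod (p ^ n))) :
    ∃ i ≤ n, (∀ x, x ∈ H ↔ ∃ y, x = (p ^ i : ℕ) * y) ∧ Nat.card H = p ^ (n - i) := by
  have hp := hpf.out
  let f : ℤ →+ ZMod (p ^ n) := Int.castAddHom _
  have hf : Function.Surjective f := ZMod.intCast_surjective
  obtain ⟨d, hd⟩ := Int.subgroup_cyclic (H.comap f)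
  rw [← AddSubgroup.zmultiples_eq_closure] at hd
  have hmem : ∀ z : ℤ, (z : ZMod (p ^ n)) ∈ H ↔ d ∣ z := by
    intro z
    have h1 : z ∈ H.comap f ↔ z ∈ AddSubgroup.zmultiples d := by rw [hd]
    rw [Int.mem_zmultiples_iff] at h1
    exact h1
  have hdn : d.natAbs ∣ p ^ n := by
    rw [← Int.natCast_dvd_natCast, Int.natAbs_dvd, ← hmem]
    rw [Int.cast_natCast, ZMod.natCast_self]
    exact H.zero_mem
  obtain ⟨i, hi, hdi⟩ := (Nat.dvd_prime_pow hp).1 hdn
  have hd' : ∀ z : ℤ, (z : ZMod (p ^ n)) ∈ H ↔ ((p ^ i : ℕ) : ℤ) ∣ z := by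
    intro z; rw [hmem, ← hdi, Int.natAbs_dvd]
  refine ⟨i, hi, ?_, ?_⟩
  · intro x
    obtain ⟨z, rfl⟩ := ZMod.intCast_surjective x
    rw [hd']
    constructor
    · rintro ⟨y, rfl⟩
      exact ⟨(y : ZMod (p ^ n)), by push_cast; ring⟩
    · rintro ⟨y, hy⟩
      obtain ⟨y, rfl⟩ := ZMod.intCast_surjective y
      have h1 : ((z - (p ^ i : ℕ) * y : ℤ) : ZMod (p ^ n)) = 0 := by
        push_cast
        push_cast at hy
        rw [hy]; ring
      have h2 := (ZMod.intCast_zmod_eq_zero_iff_dvd _ _).1 h1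
      have h3 : ((p ^ i : ℕ) : ℤ) ∣ z - (p ^ i : ℕ) * y :=
        dvd_trans (by exact_mod_cast pow_dvd_pow p hi) h2
      exact (dvd_sub_left (Dvd.intro _ rfl)).1 h3
  · have h1 : (H.comap f).index = H.index := AddSubgroup.index_comap_of_surjective _ hf
    have h2 : (H.comap f).index = p ^ i := by
      rw [hd, Int.index_zmultiples, hdi]
    have h3 := H.card_mul_index
    rw [← h1, h2, Nat.card_zmod] at h3
    have h4 : p ^ n = p ^ (n - i) * p ^ i := by rw [← pow_add, Nat.sub_add_cancel hi]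
    exact Nat.eq_of_mul_eq_mul_right (pow_pos hp.pos i) (h3.trans h4)

/-- normal form of a subgroup of `(ℤ/p^n)²` -/
theorem lattice_decomp (W : AddSubgroup (ZMod (p ^ n) × ZMod (p ^ n))) :
    ∃ (i j : ℕ) (w : ZMod (p ^ n)), i ≤ n ∧ j ≤ n ∧
      (((p ^ i : ℕ) : ZMod (p ^ n)), 0) ∈ W ∧ (w, ((p ^ j : ℕ) : ZMod (p ^ n))) ∈ W ∧
      (∀ v ∈ W, ∃ α β : ZMod (p ^ n),
        v = α • (w, ((p ^ j : ℕ) : ZMod (p ^ n))) + β • (((p ^ i : ℕ) : ZMod (p ^ n)), 0)) ∧
      Nat.card W = p ^ (n - i) * p ^ (n - j) := by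
  have hp := hpf.out
  have hne : NeZero (p ^ n) := ⟨pow_ne_zero _ hp.ne_zero⟩
  let K : AddSubgroup (ZMod (p ^ n)) := W.comap (AddMonoidHom.inl _ _)
  let I : AddSubgroup (ZMod (p ^ n)) := W.map (AddMonoidHom.snd _ _)
  obtain ⟨i, hi, hiK, hcK⟩ := zmod_subgroup K
  obtain ⟨j, hj, hjI, hcI⟩ := zmod_subgroup I
  have h1 : (((p ^ i : ℕ) : ZMod (p ^ n)), (0 : ZMod (p ^ n))) ∈ W := by
    have : ((p ^ i : ℕ) : ZMod (p ^ n)) ∈ K := (hiK _).2 ⟨1, by rw [mul_one]⟩
    exact this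
  have h2 : ((p ^ j : ℕ) : ZMod (p ^ n)) ∈ I := (hjI _).2 ⟨1, by rw [mul_one]⟩
  obtain ⟨⟨w, w'⟩, hw, hw'⟩ := h2
  have hw'' : w' = ((p ^ j : ℕ) : ZMod (p ^ n)) := hw'
  subst hw''
  have hsm : ∀ (α : ZMod (p ^ n)) (v), v ∈ W → α • v ∈ W := by
    intro α v hv
    obtain ⟨z, rfl⟩ := ZMod.intCast_surjective α
    rw [Int.cast_smul_eq_zsmul]
    exact W.zsmul_mem hv z
  refine ⟨i, j, w, hi, hj, h1, hw, ?_, ?_⟩
  · rintro ⟨x, y⟩ hv
    have hy : y ∈ I := ⟨(x, y), hv, rfl⟩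
    obtain ⟨α, hα⟩ := (hjI _).1 hy
    have h3 : (x, y) - α • (w, ((p ^ j : ℕ) : ZMod (p ^ n))) ∈ W := W.sub_mem hv (hsm _ _ hw)
    have h4 : x - α * w ∈ K := by
      have : (x, y) - α • (w, ((p ^ j : ℕ) : ZMod (p ^ n))) = (x - α * w, 0) := by
        ext
        · simp
        · simp only [Prod.snd_sub, Prod.smul_snd, smul_eq_mul]
          rw [hα]; ring
      rw [this] at h3
      exact h3
    obtain ⟨β, hβ⟩ := (hiK _).1 h4
    refine ⟨α, β, ?_⟩
    ext
    · simp only [Prod.fst_add, Prod.smul_fst, smul_eq_mul]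
      linear_combination hβ
    · simp only [Prod.snd_add, Prod.smul_snd, smul_eq_mul]
      linear_combination hα
  · -- count
    let g : W →+ ZMod (p ^ n) := (AddMonoidHom.snd _ _).comp W.subtype
    have hrange : g.range = I := by
      ext x
      constructor
      · rintro ⟨v, rfl⟩; exact ⟨v, v.2, rfl⟩
      · rintro ⟨v, hv, rfl⟩; exact ⟨⟨v, hv⟩, rfl⟩
    have hker : Nat.card g.ker = Nat.card K := by
      apply Nat.card_congr
      refine ⟨fun v => ⟨v.1.1.1, ?_⟩, fun k => ⟨⟨(k.1, 0), k.2⟩, rfl⟩, ?_, ?_⟩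
      · have h5 : v.1.1.2 = 0 := v.2
        have h6 : ((v.1.1.1 : ZMod (p ^ n)), (0 : ZMod (p ^ n))) = v.1.1 := by
          ext
          · rfl
          · exact h5.symm
        change ((v.1.1.1 : ZMod (p ^ n)), (0 : ZMod (p ^ n))) ∈ W
        rw [h6]
        exact v.1.2
      · intro v
        apply Subtype.ext
        apply Subtype.ext
        ext
        · rfl
        · exact (show v.1.1.2 = 0 from v.2).symm
      · intro k; rfl
    have h7 : Nat.card W = Nat.card g.range * Nat.card g.ker := by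
      rw [AddSubgroup.card_eq_card_quotient_mul_card_addSubgroup g.ker]
      rw [Nat.card_congr (QuotientAddGroup.quotientKerEquivRange g).toEquiv]
    rw [h7, hrange, hker, hcK, hcI, mul_comm]

/-- the values of the form on a subgroup -/
theorem lattice_om (W : AddSubgroup (ZMod (p ^ n) × ZMod (p ^ n))) :
    ∃ t : ℕ, t ≤ 2 * n ∧ Nat.card W = p ^ (2 * n - t) ∧
      (∀ v ∈ W, ∀ v' ∈ W, ∃ γ, MetaCoord.om v v' = ((p ^ t : ℕ) : ZMod (p ^ n)) * γ) ∧
      (∃ v ∈ W, ∃ v' ∈ W, MetaCoord.om v v' = ((p ^ t : ℕ) : ZMod (p ^ n))) := by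
  obtain ⟨i, j, w, hi, hj, h1, h2, h3, h4⟩ := lattice_decomp W
  refine ⟨i + j, by omega, ?_, ?_, ?_⟩
  · rw [h4, ← pow_add]; congr 1; omega
  · intro v hv v' hv'
    obtain ⟨α, β, rfl⟩ := h3 v hv
    obtain ⟨α', β', rfl⟩ := h3 v' hv'
    refine ⟨β * α' - α * β', ?_⟩
    unfold MetaCoord.om
    simp only [Prod.fst_add, Prod.snd_add, Prod.smul_fst, Prod.smul_snd, smul_eq_mul]
    push_cast
    rw [pow_add]
    ring
  · refine ⟨_, h1, _, h2, ?_⟩
    unfold MetaCoord.om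
    push_cast
    rw [pow_add]
    ring


theorem om_add_right {R : Type*} [CommRing R] (v w w' : R × R) :
    MetaCoord.om v (w + w') = MetaCoord.om v w + MetaCoord.om v w' := by
  simp only [MetaCoord.om, Prod.fst_add, Prod.snd_add]; ring

theorem om_add_left {R : Type*} [CommRing R] (v v' w : R × R) :
    MetaCoord.om (v + v') w = MetaCoord.om v w + MetaCoord.om v' w := by
  simp only [MetaCoord.om, Prod.fst_add, Prod.snd_add]; ring

/-- nondegeneracy with duality: `|W| * |W^⊥| = |V|` -/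
theorem lattice_perp (W : AddSubgroup (ZMod (p ^ n) × ZMod (p ^ n))) :
    Nat.card W * Nat.card {v : ZMod (p ^ n) × ZMod (p ^ n) // ∀ w ∈ W, MetaCoord.om v w = 0}
      = p ^ (2 * n) := by
  classical
  have hp := hpf.out
  have hne : NeZero (p ^ n) := ⟨pow_ne_zero _ hp.ne_zero⟩
  let V := ZMod (p ^ n) × ZMod (p ^ n)
  let ψ : AddChar (ZMod (p ^ n)) ℂ := ZMod.stdAddChar
  have hψ : Function.Injective ψ := ZMod.injective_stdAddChar
  have homadd : ∀ v w w' : V, MetaCoord.om v (w + w') = MetaCoord.om v w + MetaCoord.om v w' :=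
    om_add_right
  have homadd' : ∀ v v' w : V, MetaCoord.om (v + v') w = MetaCoord.om v w + MetaCoord.om v' w :=
    om_add_left
  let F : V → AddMonoidHom W (ZMod (p ^ n)) := fun v =>
    AddMonoidHom.mk' (fun w : W => MetaCoord.om v (w : V)) (fun a b => homadd v a b)
  let F' : W → AddMonoidHom V (ZMod (p ^ n)) := fun w =>
    AddMonoidHom.mk' (fun v : V => MetaCoord.om v (w : V)) (fun a b => homadd' a b w)
  have s1 : ∀ v : V, ∑ w : W, ψ (MetaCoord.om v w) =
      if (∀ w ∈ W, MetaCoord.om v w = 0) then (Nat.card W : ℂ) else 0 := by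
    intro v
    have h := AddChar.sum_eq_ite (ψ.compAddMonoidHom (F v))
    have h2 : (ψ.compAddMonoidHom (F v)) = 0 ↔ (∀ w ∈ W, MetaCoord.om v w = 0) := by
      constructor
      · intro h0 w hw
        have h3 : (ψ.compAddMonoidHom (F v)) ⟨w, hw⟩ = 1 := by rw [h0]; rfl
        have h4 : ψ (MetaCoord.om v w) = ψ 0 := by rw [AddChar.map_zero_eq_one]; exact h3
        exact hψ h4
      · intro h0
        ext w
        change ψ (MetaCoord.om v w) = 1
        rw [h0 w w.2, AddChar.map_zero_eq_one]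
    simp only [h2, ← Nat.card_eq_fintype_card] at h
    exact h
  have s2 : ∀ w : W, ∑ v : V, ψ (MetaCoord.om v w) =
      if w = 0 then (Nat.card V : ℂ) else 0 := by
    intro w
    have h := AddChar.sum_eq_ite (ψ.compAddMonoidHom (F' w))
    have h2 : (ψ.compAddMonoidHom (F' w)) = 0 ↔ w = 0 := by
      constructor
      · intro h0
        have h3 : ∀ v : V, MetaCoord.om v (w : V) = 0 := by
          intro v
          have h4 : (ψ.compAddMonoidHom (F' w)) v = 1 := by rw [h0]; rfl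
          have h5 : ψ (MetaCoord.om v w) = ψ 0 := by rw [AddChar.map_zero_eq_one]; exact h4
          exact hψ h5
        have h6 := h3 (1, 0)
        have h7 := h3 (0, 1)
        simp only [MetaCoord.om] at h6 h7
        apply Subtype.ext
        ext
        · simpa using h7
        · simpa using h6
      · rintro rfl
        ext v
        change ψ (MetaCoord.om v ((0 : W) : V)) = 1
        have : MetaCoord.om v ((0 : W) : V) = 0 := by simp [MetaCoord.om]
        rw [this, AddChar.map_zero_eq_one]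
    simp only [h2, ← Nat.card_eq_fintype_card] at h
    exact h
  have h3 : ∑ v : V, ∑ w : W, ψ (MetaCoord.om v w) = ∑ w : W, ∑ v : V, ψ (MetaCoord.om v w) :=
    Finset.sum_comm
  rw [Finset.sum_congr rfl (fun v _ => s1 v), Finset.sum_congr rfl (fun w _ => s2 w)] at h3
  rw [Finset.sum_ite_eq' Finset.univ (0 : W), if_pos (Finset.mem_univ _), ← Finset.sum_filter,
    Finset.sum_const, nsmul_eq_mul] at h3
  have h4 : Nat.card V = p ^ (2 * n) := by
    rw [Nat.card_prod, Nat.card_zmod, ← pow_add, two_mul]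
  have h5 : Nat.card {v : V // ∀ w ∈ W, MetaCoord.om v w = 0} =
      (Finset.univ.filter (fun v : V => ∀ w ∈ W, MetaCoord.om v w = 0)).card := by
    rw [Nat.card_eq_fintype_card, Fintype.card_subtype]
  rw [h5, ← h4, mul_comm]
  exact_mod_cast h3

end lattice

/-- in a `p`-group, a subgroup of index `p^e` contains all `p^e`-th powers -/
theorem pow_mem_of_index {p : ℕ} [hpf : Fact p.Prime] {G : Type*} [Group G] [Finite G]
    (hG : IsPGroup p G) (e : ℕ) : ∀ (R : Subgroup G), R.index = p ^ e → ∀ g : G, g ^ (p ^ e) ∈ R := by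
  have hp := hpf.out
  induction e with
  | zero =>
    intro R hR g
    rw [pow_zero, Subgroup.index_eq_one] at hR
    rw [hR]; exact Subgroup.mem_top _
  | succ e ih =>
    intro R hR g
    obtain ⟨t, ht⟩ := (IsPGroup.iff_card.1 (hG.to_subgroup R))
    have hcard := R.card_mul_index
    have hdvd : p ^ (t + 1) ∣ Nat.card G := by
      rw [← hcard, ht, hR, pow_succ, pow_succ]
      exact ⟨p ^ e, by ring⟩
    obtain ⟨K, hK, hRK⟩ := Sylow.exists_subgroup_card_pow_succ hdvd ht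
    have hKi : K.index = p ^ e := by
      have h1 := K.card_mul_index
      rw [← hcard, hK, ht, hR, pow_succ, pow_succ] at h1
      have h2 : p ^ t * p * K.index = p ^ t * p * p ^ e := by rw [h1]; ring
      exact Nat.eq_of_mul_eq_mul_left (Nat.mul_pos (pow_pos hp.pos t) hp.pos) h2
    have h3 := ih K hKi g
    have hrel : (R.subgroupOf K).index = p := by
      have h4 := Subgroup.relIndex_mul_index hRK
      rw [hKi, hR, pow_succ, mul_comm (p ^ e)] at h4
      exact Nat.eq_of_mul_eq_mul_right (pow_pos hp.pos e) h4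
    have hnorm : (R.subgroupOf K).Normal := by
      apply Subgroup.normal_of_index_eq_minFac_card
      rw [hrel, hK, Nat.Prime.pow_minFac hp (Nat.succ_ne_zero t)]
    have h5 := (R.subgroupOf K).pow_index_mem (⟨g ^ p ^ e, h3⟩ : K)
    rw [hrel, Subgroup.mem_subgroupOf] at h5
    rw [pow_succ, pow_mul]
    exact h5

namespace MetaCoord

variable {p : ℕ} {G : Type*} [Group G] (c : MetaCoord p G) [hpf : Fact p.Prime]

/-- the center consists of products of `p^n`-th powers -/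
theorem mem_center_iff (hp2 : p ≠ 2) (i j : ℕ) :
    c.a ^ i * c.b ^ j ∈ Subgroup.center G ↔ p ^ c.n ∣ i ∧ p ^ c.n ∣ j := by
  rw [← c.D_eq_zero_iff, D_eq, Prod.mk_eq_zero, ZMod.natCast_eq_zero_iff, ZMod.natCast_eq_zero_iff]
  rw [r, dvd_lam_iff' hpf.out hp2 c.p_dvd_q]

theorem center_le_of_index [Finite G] (hG : IsPGroup p G) (hp2 : p ≠ 2) {R : Subgroup G} {e : ℕ}
    (hR : R.index = p ^ e) (he : e ≤ c.n) : Subgroup.center G ≤ R := by
  intro g hg
  obtain ⟨i, j, rfl⟩ := c.gen g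
  obtain ⟨hi, hj⟩ := (c.mem_center_iff hp2 i j).1 hg
  obtain ⟨i', rfl⟩ := (pow_dvd_pow p he).trans hi
  obtain ⟨j', rfl⟩ := (pow_dvd_pow p he).trans hj
  rw [mul_comm (p ^ e), mul_comm (p ^ e), pow_mul, pow_mul]
  exact R.mul_mem (pow_mem_of_index hG e R hR _) (pow_mem_of_index hG e R hR _)

theorem isMulCommutative_iff_om (hp2 : p ≠ 2) (R : Subgroup G) : IsMulCommutative R ↔
    ∀ v ∈ c.W hp2 R, ∀ v' ∈ c.W hp2 R, om v v' = 0 := by
  constructor
  · rintro h _ ⟨x, hx, rfl⟩ _ ⟨y, hy, rfl⟩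
    rw [← commute_iff]
    have := h.is_comm.comm (⟨x, hx⟩ : R) ⟨y, hy⟩
    exact congrArg Subtype.val this
  · intro h
    refine ⟨⟨?_⟩⟩
    rintro ⟨x, hx⟩ ⟨y, hy⟩
    apply Subtype.ext
    exact ((c.commute_iff x y).2 (h _ ⟨x, hx, rfl⟩ _ ⟨y, hy, rfl⟩)).eq

/-- isotropic iff small -/
theorem isMulCommutative_iff_card_W (hp2 : p ≠ 2) (R : Subgroup G) : IsMulCommutative R ↔
    Nat.card (c.W hp2 R) ≤ p ^ c.n := by
  have hp := hpf.out
  rw [c.isMulCommutative_iff_om hp2]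
  obtain ⟨t, ht, hc, h1, v, hv, v', hv', h2⟩ := lattice_om (c.W hp2 R)
  rw [hc, Nat.pow_le_pow_iff_right hp.one_lt]
  constructor
  · intro h
    have h3 := h v hv v' hv'
    rw [h2, ZMod.natCast_eq_zero_iff, Nat.pow_dvd_pow_iff_le_right hp.one_lt] at h3
    omega
  · intro h w hw w' hw'
    obtain ⟨γ, hγ⟩ := h1 w hw w' hw'
    have h3 : ((p ^ t : ℕ) : ZMod (p ^ c.n)) = 0 := by
      rw [ZMod.natCast_eq_zero_iff]
      exact pow_dvd_pow p (by omega)
    rw [hγ, h3, zero_mul]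

theorem card_le_of_isMulCommutative [Finite G] (hp2 : p ≠ 2) {R : Subgroup G}
    (hR : IsMulCommutative R) : Nat.card R ≤ p ^ c.n * Nat.card (Subgroup.center G) := by
  rw [← c.card_W_mul hp2 R]
  apply Nat.mul_le_mul
  · exact (c.isMulCommutative_iff_card_W hp2 R).1 hR
  · exact Subgroup.card_le_of_le inf_le_right

theorem index_commutator [Finite G] (hp2 : p ≠ 2) :
    (commutator G).index = p ^ c.n * Nat.card (Subgroup.center G) := by
  have h1 := (commutator G).card_mul_index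
  rw [c.card_commutator, ← c.card_eq hp2, two_mul, pow_add, mul_assoc] at h1
  exact Nat.eq_of_mul_eq_mul_left (pow_pos hpf.out.pos _) h1

theorem isMulCommutative_of_index_eq [Finite G] (hG : IsPGroup p G) (hp2 : p ≠ 2) {R : Subgroup G}
    (hR : R.index = p ^ c.n) : IsMulCommutative R := by
  rw [c.isMulCommutative_iff_card_W hp2]
  have h1 := c.card_W hp2 (c.center_le_of_index hG hp2 hR le_rfl)
  have h2 := R.card_mul_index
  rw [hR, ← h1, ← c.card_eq hp2, two_mul, pow_add] at h2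
  have h3 : Nat.card (c.W hp2 R) * (Nat.card (Subgroup.center G) * p ^ c.n) =
      p ^ c.n * (Nat.card (Subgroup.center G) * p ^ c.n) := by
    linarith
  exact (Nat.eq_of_mul_eq_mul_right (Nat.mul_pos Nat.card_pos (pow_pos hpf.out.pos _)) h3).le

theorem isMulCommutative_of_card_le [Finite G] (hG : IsPGroup p G) (hp2 : p ≠ 2) {R : Subgroup G}
    (hR : Nat.card R ≤ p ^ c.n * Nat.card (Subgroup.center G)) : IsMulCommutative R := by
  have hp := hpf.out
  -- enlarge to index p ^ n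
  obtain ⟨t, ht⟩ := (IsPGroup.iff_card.1 (hG.to_subgroup R))
  obtain ⟨z, hz⟩ := (IsPGroup.iff_card.1 (hG.to_subgroup (Subgroup.center G)))
  have hG1 := c.card_eq hp2
  rw [ht, hz, ← pow_add, Nat.pow_le_pow_iff_right hp.one_lt] at hR
  rw [hz, ← pow_add] at hG1
  have hdvd : p ^ (c.n + z) ∣ Nat.card G := by
    rw [← hG1]; exact pow_dvd_pow p (by omega)
  obtain ⟨K, hK, hRK⟩ := Sylow.exists_subgroup_card_pow_prime_le p hdvd R ht hR
  have hKi : K.index = p ^ c.n := by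
    have h1 := K.card_mul_index
    rw [hK, ← hG1] at h1
    have h2 : p ^ (c.n + z) * K.index = p ^ (c.n + z) * p ^ c.n := by
      rw [h1, ← pow_add]; congr 1; omega
    exact Nat.eq_of_mul_eq_mul_left (pow_pos hp.pos _) h2
  have h3 := c.isMulCommutative_of_index_eq hG hp2 hKi
  refine ⟨⟨?_⟩⟩
  rintro ⟨x, hx⟩ ⟨y, hy⟩
  apply Subtype.ext
  have h4 := h3.is_comm.comm (⟨x, hRK hx⟩ : K) ⟨y, hRK hy⟩
  have h5 : x * y = y * x := congrArg (Subtype.val : K → G) h4
  exact h5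

/-- centralizers correspond to perps -/
theorem card_centralizer [Finite G] (hp2 : p ≠ 2) (R : Subgroup G) :
    Nat.card (c.W hp2 R) * Nat.card (Subgroup.centralizer (R : Set G)) = Nat.card G := by
  have hle : Subgroup.center G ≤ Subgroup.centralizer (R : Set G) :=
    Subgroup.center_le_centralizer _
  have h1 := c.card_W hp2 hle
  have h2 : Nat.card (c.W hp2 (Subgroup.centralizer (R : Set G))) =
      Nat.card {v : ZMod (p ^ c.n) × ZMod (p ^ c.n) // ∀ w ∈ c.W hp2 R, om v w = 0} := by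
    apply Nat.card_congr
    apply Equiv.subtypeEquivRight
    intro v
    obtain ⟨x, rfl⟩ := c.D_surjective hp2 v
    rw [c.D_mem_W_iff hp2 hle, Subgroup.mem_centralizer_iff]
    constructor
    · rintro h _ ⟨y, hy, rfl⟩
      rw [← commute_iff]
      exact (h y hy).symm
    · intro h y hy
      exact ((c.commute_iff x y).2 (h _ ⟨y, hy, rfl⟩)).eq.symm
  have h3 := lattice_perp (c.W hp2 R)
  rw [← h1, ← c.card_eq hp2, ← h3, h2, mul_assoc]

include c in
/-- `|R| |C_G(R)| = |G| |R ∩ Z(G)|` -/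
theorem card_R_mul_centralizer [Finite G] (hp2 : p ≠ 2) (R : Subgroup G) :
    Nat.card R * Nat.card (Subgroup.centralizer (R : Set G)) =
      Nat.card G * Nat.card ↥(R ⊓ Subgroup.center G) := by
  rw [← c.card_W_mul hp2 R, ← c.card_centralizer hp2 R]
  ring


theorem card_zpowers_aqt {t : ℕ} (ht : t ≤ c.n) :
    Nat.card (Subgroup.zpowers (c.a ^ (c.q * p ^ t))) = p ^ (c.n - t) := by
  have hp := hpf.out
  have hsplit : ((p ^ c.n : ℕ) : ℤ) = ((p ^ t : ℕ) : ℤ) * ((p ^ (c.n - t) : ℕ) : ℤ) := by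
    rw [← Nat.cast_mul, ← pow_add]; congr 2; omega
  have key : ∀ z : ℕ, (c.a ^ (c.q * p ^ t)) ^ z = 1 ↔ p ^ (c.n - t) ∣ z := by
    intro z
    rw [← pow_mul, ← zpow_natCast, Nat.cast_mul, Nat.cast_mul, mul_assoc, a_zpow_eq_one_iff, hsplit,
      mul_dvd_mul_iff_left (by exact_mod_cast pow_ne_zero _ hp.ne_zero), Int.natCast_dvd_natCast]
  rw [Nat.card_zpowers]
  apply Nat.dvd_antisymm
  · rw [orderOf_dvd_iff_pow_eq_one, key]
  · rw [← key, pow_orderOf_eq_one]

include c in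
/-- derived subgroups of nonabelian subgroups all have index `|G : G'|` -/
theorem index_commutator_subgroup [Finite G] (hG : IsPGroup p G) (hp2 : p ≠ 2) {R : Subgroup G}
    (hR : ¬ IsMulCommutative R) : (commutator R).index = (commutator G).index := by
  have hp := hpf.out
  obtain ⟨e, he⟩ : ∃ e, R.index = p ^ e := hG.index R
  -- the index is small
  have hen : e < c.n := by
    by_contra hcon
    apply hR
    apply c.isMulCommutative_of_card_le hG hp2
    have h1 := R.card_mul_index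
    rw [he, ← c.card_eq hp2] at h1
    have h2 : Nat.card R * p ^ c.n ≤ p ^ c.n * Nat.card (Subgroup.center G) * p ^ c.n := by
      calc Nat.card R * p ^ c.n ≤ Nat.card R * p ^ e :=
            Nat.mul_le_mul_left _ (Nat.pow_le_pow_right hp.pos (by omega))
        _ = p ^ c.n * Nat.card (Subgroup.center G) * p ^ c.n := by
            rw [h1, two_mul, pow_add]; ring
    exact Nat.le_of_mul_le_mul_right h2 (pow_pos hp.pos _)
  have hZR := c.center_le_of_index hG hp2 he hen.le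
  obtain ⟨t, ht, hc, h1, v, hv, v', hv', h2⟩ := lattice_om (c.W hp2 R)
  have hte : t = e := by
    have h3 := c.card_W hp2 hZR
    have h4 := R.card_mul_index
    rw [he, ← h3, hc, ← c.card_eq hp2] at h4
    have h5 : p ^ (2 * c.n - t) * p ^ e * Nat.card (Subgroup.center G) =
        p ^ (2 * c.n) * Nat.card (Subgroup.center G) := by rw [← h4]; ring
    have h6 := Nat.eq_of_mul_eq_mul_right Nat.card_pos h5
    rw [← pow_add] at h6
    have h7 := Nat.pow_right_injective hp.two_le h6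
    omega
  subst hte
  have hder : ⁅R, R⁆ = Subgroup.zpowers (c.a ^ (c.q * p ^ t)) := by
    apply le_antisymm
    · rw [Subgroup.commutator_le]
      intro x hx y hy
      obtain ⟨γ, hγ⟩ := h1 (c.D y) ⟨y, hy, rfl⟩ (c.D x) ⟨x, hx, rfl⟩
      obtain ⟨z, rfl⟩ := ZMod.intCast_surjective γ
      have h8 : (((p ^ t : ℕ) * z : ℤ) : ZMod (p ^ c.n)) = om (c.D y) (c.D x) := by
        rw [hγ]; push_cast; ring
      rw [c.commutatorElement_eq x y _ h8, Subgroup.mem_zpowers_iff]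
      refine ⟨z, ?_⟩
      rw [← zpow_natCast, ← zpow_mul]
      congr 1
      push_cast
      ring
    · rw [Subgroup.zpowers_le]
      obtain ⟨x, hx, rfl⟩ := hv
      obtain ⟨y, hy, rfl⟩ := hv'
      have h8 : (((p ^ t : ℕ) : ℤ) : ZMod (p ^ c.n)) = om (c.D x) (c.D y) := by
        rw [h2]; push_cast; ring
      have h9 := c.commutatorElement_eq y x _ h8
      rw [← Nat.cast_mul, zpow_natCast] at h9
      rw [← h9]
      exact Subgroup.commutator_mem_commutator hy hx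
  have hcard : Nat.card (commutator R) = p ^ (c.n - t) := by
    rw [← c.card_zpowers_aqt hen.le, ← hder]
    have h10 : (commutator R).map R.subtype = ⁅R, R⁆ := by
      rw [commutator_def, Subgroup.map_commutator, ← MonoidHom.range_eq_map, Subgroup.range_subtype]
    rw [← h10]
    exact (Nat.card_congr ((commutator R).equivMapOfInjective _ R.subtype_injective).toEquiv)
  have h11 := (commutator R).card_mul_index
  have h12 := R.card_mul_index
  rw [← h11, hcard, he, ← c.card_eq hp2, two_mul, pow_add] at h12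
  rw [c.index_commutator hp2]
  have h13 : p ^ c.n * (commutator R).index = p ^ c.n * (p ^ c.n * Nat.card (Subgroup.center G)) := by
    have h14 : p ^ (c.n - t) * p ^ t = p ^ c.n := by rw [← pow_add]; congr 1; omega
    rw [← h14] at h12 ⊢
    nlinarith
  exact Nat.eq_of_mul_eq_mul_left (pow_pos hp.pos _) h13

end MetaCoord

end Cfsg.Agent.H470
end
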